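import Mathlib
import Cfsg.Agent.H277.EM.Univ
import Cfsg.Agent.S2174
import Cfsg.Agent.S2103
import Cfsg.Agent.S2104

/-!
# S2243, row `F₄(q)`, `q` even (helper601)
-/

set_option autoImplicit false

namespace Cfsg.Agent.H601.EM.FFour

open Subgroup Cfsg.Lie Cfsg.Agent.ChevalleyStructure.TwF4.Bits Cfsg.Agent.ChevalleyStructure.TwF4.Tables
  Cfsg.Agent.ChevalleyStructure.Elts Cfsg.Agent.H81.FFourCode Cfsg.Agent.H277.MI
open scoped commutatorElement

universe u v

/-- a finite field of even order has characteristic two -/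
theorem charTwo {F : Type v} [Field F] [Fintype F] (hF : Even (Fintype.card F)) : CharP F 2 := by
  obtain ⟨n, hp, hcard⟩ := FiniteField.card F (ringChar F)
  have h1 : 2 ∣ ringChar F ^ (n : ℕ) := by rw [← hcard]; exact even_iff_two_dvd.1 hF
  have h2 : 2 ∣ ringChar F := Nat.prime_two.dvd_of_dvd_pow h1
  have h3 : ringChar F = 2 := ((Nat.prime_dvd_prime_iff_eq Nat.prime_two hp).1 h2).symm
  rw [← h3]
  infer_instance

variable {F : Type v} [Field F]

/-- the word as an element of the group -/
def w (F : Type v) [Field F] (l : List ℕ) : ↥(chevF4.group F) := ⟨wG F l, wG_mem l⟩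

theorem w_append (a b : List ℕ) : w F (a ++ b) = w F a * w F b := Subtype.ext (wG_append a b)

theorem w_nil : w F [] = 1 := rfl

theorem w_inv [CharP F 2] (a : List ℕ) : (w F a)⁻¹ = w F a.reverse := Subtype.ext (wG_inv a)

theorem w_eq [CharP F 2] {a b : List ℕ} (h : (okW a && okW b && Nat.beq (wc a idN) (wc b idN)) = true) :
    w F a = w F b := by
  rw [Bool.and_eq_true, Bool.and_eq_true] at h
  exact Subtype.ext (eq_of_code h.1.1 h.1.2 h.2)

theorem w_comm [CharP F 2] {a b : List ℕ} (h : (okW (a ++ b) && okW (b ++ a) && Nat.beq (wc (a ++ b) idN)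
    (wc (b ++ a) idN)) = true) : w F a * w F b = w F b * w F a := by
  rw [← w_append, ← w_append]
  exact w_eq h

theorem w_sq [CharP F 2] {a : List ℕ} (h : (okW (a ++ a) && okW [] && Nat.beq (wc (a ++ a) idN) (wc [] idN)) = true) :
    w F a * w F a = 1 := by
  rw [← w_append, ← w_nil]
  exact w_eq h

theorem w_conj [CharP F 2] {h a b : List ℕ} (hc : (okW (h ++ a ++ h.reverse) && okW b && Nat.beq (wc
    (h ++ a ++ h.reverse) idN) (wc b idN)) = true) : IsConj (w F a) (w F b) := by
  rw [isConj_iff]
  refine ⟨w F h, ?_⟩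
  rw [w_inv, ← w_append, ← w_append]
  exact w_eq hc

/-- a word is a commutator of elements which commute with `a` -/
theorem w_commutator [CharP F 2] {a u v b : List ℕ}
    (h1 : (okW (u ++ a) && okW (a ++ u) && Nat.beq (wc (u ++ a) idN) (wc (a ++ u) idN)) = true)
    (h2 : (okW (v ++ a) && okW (a ++ v) && Nat.beq (wc (v ++ a) idN) (wc (a ++ v) idN)) = true)
    (h3 : (okW (u ++ v ++ u.reverse ++ v.reverse) && okW b && Nat.beq (wc (u ++ v ++ u.reverse ++ v.reverse) idN)
      (wc b idN)) = true) :
    ∃ C : Subgroup ↥(chevF4.group F), (∀ c ∈ C, c * w F a = w F a * c) ∧ w F b ∈ ⁅C, C⁆ := by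
  refine ⟨centralizer {w F a}, fun c hc => mem_centralizer_singleton_iff.1 hc, ?_⟩
  have h4 : w F b = ⁅w F u, w F v⁆ := by
    rw [commutatorElement_def, w_inv, w_inv, ← w_append, ← w_append, ← w_append]
    exact (w_eq h3).symm
  rw [h4]
  exact commutator_mem_commutator (mem_centralizer_singleton_iff.2 (w_comm h1))
    (mem_centralizer_singleton_iff.2 (w_comm h2))

theorem exists_rep [Fintype F] [CharP F 2] (t : ↥(chevF4.group F)) (ht : orderOf t = 2) :
    ∃ b ∈ [[47], [44], [47, 44], [39, 45]], IsConj t (w F b) := by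
  obtain ⟨y, hy, hy1, h, hh, hhy⟩ := (Cfsg.Agent.S2174.result (F := F)).2.1 (t : GL chevF4.Idx F) t.2
    (by rw [Subgroup.orderOf_coe]; exact ht)
  rw [Cfsg.Agent.S2174.mem_iff] at hy1
  obtain ⟨b, hb, rfl⟩ := hy1
  refine ⟨b, ?_, ?_⟩
  · have h1 : (Cfsg.Agent.H81.FFourFus.reps.all fun b => decide (b ∈ [[47], [44], [47, 44], [39, 45]])) = true := by
      decide +kernel
    rw [List.all_eq_true] at h1
    exact of_decide_eq_true (h1 b hb)
  · rw [isConj_iff]
    exact ⟨⟨h, hh⟩, Subtype.ext hhy⟩

theorem em [Fintype F] [CharP F 2] : EM ↥(chevF4.group F) := by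
  refine em_of_commuting {x | ∃ a ∈ [[47], [44], [39, 45]], x = w F a} ?_ ?_ ?_
  · rintro _ ⟨a, ha, rfl⟩
    have h : ([[47], [44], [39, 45]].all fun a => (okW (a ++ a) && okW [] && Nat.beq (wc (a ++ a) idN)
        (wc [] idN))) = true := by decide +kernel
    rw [List.all_eq_true] at h
    exact w_sq (h a ha)
  · rintro _ ⟨a, ha, rfl⟩ _ ⟨b, hb, rfl⟩
    have h : ([[47], [44], [39, 45]].all fun a => [[47], [44], [39, 45]].all fun b => (okW (a ++ b) && okW (b ++ a) &&
        Nat.beq (wc (a ++ b) idN) (wc (b ++ a) idN))) = true := by decide +kernel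
    rw [List.all_eq_true] at h
    have h1 := h a ha
    rw [List.all_eq_true] at h1
    exact w_comm (h1 b hb)
  · intro t ht
    obtain ⟨b, hb, hc⟩ := exists_rep t ht
    obtain ⟨g, hg⟩ := isConj_iff.1 hc
    refine ⟨g, ?_⟩
    rw [hg]
    simp only [List.mem_cons, List.not_mem_nil, or_false] at hb
    rcases hb with rfl | rfl | rfl | rfl
    · exact subset_closure ⟨_, by simp, rfl⟩
    · exact subset_closure ⟨_, by simp, rfl⟩
    · have h1 : w F [47, 44] = w F [47] * w F [44] := w_append [47] [44]
      rw [h1]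
      exact mul_mem (subset_closure ⟨_, by simp, rfl⟩) (subset_closure ⟨_, by simp, rfl⟩)
    · exact subset_closure ⟨_, by simp, rfl⟩

/-- all involutions lift -/
theorem all_lift [Fintype F] [CharP F 2] {L : Type u} [Group L] {π : L →* ↥(chevF4.group F)}
    (hs : Function.Surjective π) (hc : π.ker ≤ center L) (h2 : ∀ z ∈ π.ker, z * z = 1) (t : ↥(chevF4.group F))
    (ht : orderOf t = 2) : Lft π t := by
  -- long roots
  have hlong : Lft π (w F [47]) := by
    obtain ⟨C, hC, hb⟩ := w_commutator (F := F) (a := [47]) (u := [25]) (v := [45]) (b := [46]) (by decide +kernel)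
      (by decide +kernel) (by decide +kernel)
    refine lft_of_four hs hc h2 (w_sq (by decide +kernel)) hC hb (w_conj (h := [24, 23, 24]) (by decide +kernel)) ?_
    rw [← w_append]
    exact (w_conj (h := [24, 23, 24]) (b := [46]) (by decide +kernel)).trans (w_conj (h := [24]) (by decide +kernel))
  have hshort : Lft π (w F [44]) := by
    obtain ⟨C, hC, hb⟩ := w_commutator (F := F) (a := [44]) (u := [27]) (v := [39]) (b := [40]) (by decide +kernel)
      (by decide +kernel) (by decide +kernel)
    refine lft_of_four hs hc h2 (w_sq (by decide +kernel)) hC hb (w_conj (h := [33, 14, 33]) (by decide +kernel)) ?_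
    rw [← w_append]
    exact (w_conj (h := [33, 14, 33]) (b := [40]) (by decide +kernel)).trans (w_conj (h := [33]) (by decide +kernel))
  have hprod : Lft π (w F [47, 44]) := by
    obtain ⟨C, hC, hb⟩ := w_commutator (F := F) (a := [47]) (u := [33]) (v := [40]) (b := [44]) (by decide +kernel)
      (by decide +kernel) (by decide +kernel)
    have h1 : w F [47, 44] = w F [47] * w F [44] := w_append [47] [44]
    rw [h1]
    exact lft_mul hs hc hC hb hlong hshort
  have hprod2 : Lft π (w F [39, 45]) := by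
    obtain ⟨C, hC, hb⟩ := w_commutator (F := F) (a := [45]) (u := [28]) (v := [36]) (b := [39]) (by decide +kernel)
      (by decide +kernel) (by decide +kernel)
    have h1 : w F [39, 45] = w F [45] * w F [39] := by
      rw [← w_append]
      exact w_eq (by decide +kernel)
    rw [h1]
    refine lft_mul hs hc hC hb (hlong.isConj hs (w_conj (h := [26, 21, 26]) (by decide +kernel)))
      (hshort.isConj hs (w_conj (h := [34, 13, 34]) (by decide +kernel)))
  obtain ⟨b, hb, hcj⟩ := exists_rep t ht
  simp only [List.mem_cons, List.not_mem_nil, or_false] at hb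
  rcases hb with rfl | rfl | rfl | rfl
  · exact hlong.isConj hs hcj.symm
  · exact hshort.isConj hs hcj.symm
  · exact hprod.isConj hs hcj.symm
  · exact hprod2.isConj hs hcj.symm

/-- **The row `F₄(q)`, `q` even.** -/
theorem crow_f4_even {L : Type u} [Group L] {F : Type} [Field F] [Fintype F] (hF : Even (Fintype.card F))
    (e : L ≃* Cfsg.Lie.chevF4.group F) : CRow L := by
  have hc := charTwo hF
  refine CRow.congr e ?_
  have h1 : 1 < Fintype.card F := Fintype.one_lt_card
  by_cases h2 : Fintype.card F = 2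
  · have hexp := expTwo_of_cyclic (Cfsg.Agent.S2104.result (F := F) h2) (by norm_num)
    intro M _ _ π hπ hM
    exact em_of_all_lift hπ.surj hπ.cen (hexp M π hπ hM) (all_lift hπ.surj hπ.cen (hexp M π hπ hM)) em
  · exact CRow.of_noCov (noCov_of_cyclic (Cfsg.Agent.S2103.result (F := F) (by omega)) odd_one) em

end Cfsg.Agent.H601.EM.FFour
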